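import Mathlib

/-!
Subgroups of finite nilpotent groups are subnormal.
-/

set_option autoImplicit false

namespace Cfsg.Agent.FiniteChecks

open Subgroup

theorem isSubnormal_nilpotent {K : Type*} [Group K] [Finite K] [Group.IsNilpotent K] (H : Subgroup K) :
    H.IsSubnormal := by
  induction H using WellFoundedGT.induction with
  | ind H ih =>
    rcases eq_or_ne H ⊤ with rfl | hne
    · exact IsSubnormal.top
    · exact IsSubnormal.step H _ le_normalizer
        (ih _ (Group.normalizerCondition_of_isNilpotent H (lt_top_iff_ne_top.mpr hne))) inferInstance

/-- A subgroup is subnormal in what it generates with an element centralizing it. -/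
theorem normal_subgroupOf_sup_zpowers {G : Type*} [Group G] {A : Subgroup G} {g : G}
    (h : ∀ a ∈ A, g * a = a * g) : (A.subgroupOf (A ⊔ zpowers g)).Normal := by
  refine (Subgroup.normal_subgroupOf_iff_le_normalizer le_sup_left).mpr (sup_le le_normalizer ?_)
  rw [zpowers_le, mem_normalizer_iff]
  intro a
  constructor
  · intro ha; rwa [h a ha, mul_assoc, mul_inv_cancel, mul_one]
  · intro ha
    have := h _ ha
    simp only [mul_assoc, inv_mul_cancel, mul_one] at this
    have e := mul_left_cancel this
    rw [← mul_assoc] at e
    rwa [e] at ha

end Cfsg.Agent.FiniteChecks
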